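import Cfsg.Agent.Helper28.Fi23P2.Facts0
import Cfsg.Agent.Helper28.Fi23P2.Facts1
import Cfsg.Agent.Helper28.Fi23P2.Facts2
import Cfsg.Agent.Helper28.Fi23P2.Facts3
import Cfsg.Agent.Helper28.Fi23P2.Misc
import Cfsg.Agent.Helper28.Fi23P2.Perm0
import Cfsg.Agent.Helper28.Fi23P2.Perm1
import Cfsg.Agent.Helper28.Fi23P2.Perm2
set_option autoImplicit false
namespace Cfsg.Agent.Helper28.Fi23P2
open Cfsg.Agent.Helper28
theorem perm_all : ∀ r, 7 ≤ r → r < 72 → relOk ptabs (tabs.word r) 0 ptabs.n = true := by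
  intro r h1 h2
  by_cases c7 : r < 36
  · exact permRange_sound ptabs tabs.word letTr.get 12 4095 perm_eq 7 29 perm_ok_7 r (by omega) (by omega)
  by_cases c36 : r < 66
  · exact permRange_sound ptabs tabs.word letTr.get 12 4095 perm_eq 36 30 perm_ok_36 r (by omega) (by omega)
  by_cases c66 : r < 72
  · exact permRange_sound ptabs tabs.word letTr.get 12 4095 perm_eq 66 6 perm_ok_66 r (by omega) (by omega)
  omega
theorem subfix_all : ∀ r, r < 7 → relOk ptabs (tabs.word r) 0 1 = true := allLt_sound _ _ subfix_ok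
def factBounds : List Nat := [0, 10449, 20898, 31347, 41797]
end Cfsg.Agent.Helper28.Fi23P2
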